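import Cfsg.Prelude.Def_Perm
import Cfsg.Agent.Lib.Zass.Normal
import Cfsg.Agent.S3360
import Mathlib.GroupTheory.GroupAction.MultipleTransitivity
import Mathlib.GroupTheory.GroupAction.SubMulAction.Combination
import Mathlib.FieldTheory.Finite.GaloisField

/-!
Two-homogeneous groups that are not doubly transitive, given solvability in odd order.
-/

set_option autoImplicit false
set_option linter.unusedSectionVars false
set_option linter.style.haveILetI false

open MulAction
open scoped Pointwise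

namespace CfsgLib.KantorTwoHom

universe u

section

variable {α : Type u} [Fintype α] [DecidableEq α] {G : Subgroup (Equiv.Perm α)}

theorem exists_pair (h2 : MulAction.IsPretransitive G (Set.powersetCard α 2)) {a b c d : α}
    (hab : a ≠ b) (hcd : c ≠ d) :
    ∃ g : G, (g • a = c ∧ g • b = d) ∨ (g • a = d ∧ g • b = c) := by
  obtain ⟨g, hg⟩ := h2.exists_smul_eq (⟨{a, b}, Finset.card_pair hab⟩ : Set.powersetCard α 2)
    ⟨{c, d}, Finset.card_pair hcd⟩
  have hv := congrArg Subtype.val hg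
  change g • ({a, b} : Finset α) = {c, d} at hv
  simp only [Finset.smul_finset_insert, Finset.smul_finset_singleton] at hv
  refine ⟨g, ?_⟩
  have h1 : g • a ∈ ({c, d} : Finset α) := by rw [← hv]; simp
  have h3 : g • b ∈ ({c, d} : Finset α) := by rw [← hv]; simp
  have hne : g • a ≠ g • b := fun h => hab ((MulAction.injective g) h)
  rw [Finset.mem_insert, Finset.mem_singleton] at h1 h3
  rcases h1 with h1 | h1 <;> rcases h3 with h3 | h3
  · exact absurd (h1.trans h3.symm) hne
  · exact Or.inl ⟨h1, h3⟩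
  · exact Or.inr ⟨h1, h3⟩
  · exact absurd (h1.trans h3.symm) hne

theorem three_le (hne : G ≠ ⊥) (hn2 : ¬ MulAction.IsMultiplyPretransitive G α 2) :
    3 ≤ Fintype.card α := by
  by_contra h
  apply hn2
  obtain ⟨g, hg, hg1⟩ := (Subgroup.ne_bot_iff_exists_ne_one.1 hne).imp fun g hg => And.intro g.2 hg
  obtain ⟨x, hx⟩ : ∃ x, (g : Equiv.Perm α) x ≠ x := by
    by_contra hcon
    push Not at hcon
    exact hg1 (Subtype.ext (Equiv.ext hcon))
  have htwo : ∀ y : α, y = x ∨ y = (g : Equiv.Perm α) x := by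
    intro y
    by_contra hy
    push Not at hy
    exact h (Finset.card_le_univ ({y, x, (g : Equiv.Perm α) x} : Finset α) |>.trans' (by
      rw [Finset.card_insert_of_notMem (by simp [hy.1, hy.2]), Finset.card_pair (Ne.symm hx)]))
  rw [MulAction.is_two_pretransitive_iff]
  intro a b c d hab hcd
  have hgg : g • g • x = x := by
    rcases htwo ((g : Equiv.Perm α) ((g : Equiv.Perm α) x)) with h1 | h1
    · exact h1
    · exact absurd ((g : Equiv.Perm α).injective h1) hx
  rcases htwo a with ha | ha <;> rcases htwo b with hb | hb <;> rcases htwo c with hc | hc <;>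
    rcases htwo d with hd | hd <;>
    first
    | exact absurd (ha.trans hb.symm) hab
    | exact absurd (hc.trans hd.symm) hcd
    | exact ⟨1, (one_smul _ _).trans (ha.trans hc.symm), (one_smul _ _).trans (hb.trans hd.symm)⟩
    | exact ⟨g, (congrArg (g • ·) ha).trans hc.symm, ((congrArg (g • ·) hb).trans hgg).trans hd.symm⟩
    | exact ⟨g, ((congrArg (g • ·) ha).trans hgg).trans hc.symm, (congrArg (g • ·) hb).trans hd.symm⟩

theorem odd_card (h2 : MulAction.IsPretransitive G (Set.powersetCard α 2))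
    (hn2 : ¬ MulAction.IsMultiplyPretransitive G α 2) : Odd (Nat.card G) := by
  rw [← Nat.not_even_iff_odd, even_iff_two_dvd]
  intro h
  apply hn2
  haveI := Fact.mk Nat.prime_two
  obtain ⟨t, ht⟩ := exists_prime_orderOf_dvd_card' 2 h
  obtain ⟨a, ha⟩ : ∃ a, t • a ≠ a := by
    by_contra hcon
    push Not at hcon
    have : t = 1 := Subtype.ext (Equiv.ext hcon)
    rw [this, orderOf_one] at ht
    exact absurd ht (by norm_num)
  have htt : t • t • a = a := by
    rw [← mul_smul, ← sq, show t ^ 2 = 1 by rw [← ht, pow_orderOf_eq_one], one_smul]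
  have hkey : ∀ c d : α, c ≠ d → ∃ g : G, g • a = c ∧ g • (t • a) = d := by
    intro c d hcd
    obtain ⟨g, hg | hg⟩ := exists_pair h2 (Ne.symm ha) hcd
    · exact ⟨g, hg⟩
    · exact ⟨g * t, by rw [mul_smul]; exact hg.2, by rw [mul_smul, htt]; exact hg.1⟩
  rw [MulAction.is_two_pretransitive_iff]
  intro x y c d hxy hcd
  obtain ⟨g, hg1, hg2⟩ := hkey x y hxy
  obtain ⟨k, hk1, hk2⟩ := hkey c d hcd
  exact ⟨k * g⁻¹, by rw [mul_smul, ← hg1, inv_smul_smul, hk1], by rw [mul_smul, ← hg2, inv_smul_smul, hk2]⟩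

theorem pretransitive (h3 : 3 ≤ Fintype.card α)
    (h2 : MulAction.IsPretransitive G (Set.powersetCard α 2)) : MulAction.IsPretransitive G α := by
  refine ⟨fun a b => ?_⟩
  by_cases hab : a = b
  · exact ⟨1, by rw [one_smul, hab]⟩
  obtain ⟨c, hc⟩ := Finset.exists_mem_notMem_of_card_lt_card (s := ({a, b} : Finset α)) (t := Finset.univ)
    (by rw [Finset.card_pair hab, Finset.card_univ]; omega)
  simp only [Finset.mem_insert, Finset.mem_singleton, not_or] at hc
  obtain ⟨g, hg | hg⟩ := exists_pair h2 (Ne.symm hc.2.1) (Ne.symm hc.2.2)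
  · exact ⟨g, hg.1⟩
  · exact ⟨g * g, by rw [mul_smul, hg.1, hg.2]⟩

theorem normal_transitive (h2 : MulAction.IsPretransitive G (Set.powersetCard α 2)) (N : Subgroup G)
    [hN : N.Normal] (hne : N ≠ ⊥) : ∀ x y : α, ∃ n ∈ N, n • x = y := by
  obtain ⟨n, hn1⟩ := Subgroup.ne_bot_iff_exists_ne_one.1 hne
  obtain ⟨a, ha⟩ : ∃ a, (n : G) • a ≠ a := by
    by_contra hcon
    push Not at hcon
    exact hn1 (Subtype.ext (Subtype.ext (Equiv.ext hcon)))
  have hsym : ∀ x y : α, (∃ m ∈ N, m • x = y) → ∃ m ∈ N, m • y = x := fun x y ⟨m, hm, h⟩ =>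
    ⟨m⁻¹, N.inv_mem hm, by rw [← h, inv_smul_smul]⟩
  intro x y
  by_cases hxy : x = y
  · exact ⟨1, N.one_mem, by rw [one_smul, hxy]⟩
  obtain ⟨g, hg⟩ := exists_pair h2 (Ne.symm ha) hxy
  have h : ∃ m ∈ N, m • g • a = g • ((n : G) • a) :=
    ⟨g * n * g⁻¹, hN.conj_mem _ n.2 g, by simp only [mul_smul, inv_smul_smul]⟩
  rcases hg with ⟨h1, h3⟩ | ⟨h1, h3⟩
  · rwa [h1, h3] at h
  · rw [h1, h3] at h
    exact hsym _ _ h

theorem exists_regular_normal [Group.IsSolvable G] (hne : G ≠ ⊥)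
    (h2 : MulAction.IsPretransitive G (Set.powersetCard α 2)) :
    ∃ (R : Subgroup G) (p : ℕ), p.Prime ∧ CfsgLib.Zass.IsRegularNormal R α ∧
      (∀ x ∈ R, ∀ y ∈ R, x * y = y * x) ∧ (∀ x ∈ R, x ^ p = 1) ∧ R ≠ ⊥ := by
  classical
  have hnt : (⊤ : Subgroup G) ≠ ⊥ := by
    intro h
    obtain ⟨g, hg⟩ := Subgroup.ne_bot_iff_exists_ne_one.1 hne
    exact hg (Subgroup.mem_bot.1 (h ▸ Subgroup.mem_top g))
  obtain ⟨k, hk⟩ := Group.IsSolvable.solvable (G := G)
  have hex : ∃ k, derivedSeries G k = ⊥ := ⟨k, hk⟩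
  obtain ⟨m, hm⟩ : ∃ m, Nat.find hex = m + 1 := Nat.exists_eq_succ_of_ne_zero (fun h => hnt (by
    have := Nat.find_spec hex
    rwa [h, derivedSeries_zero] at this))
  set A := derivedSeries G m with hA
  have hAne : A ≠ ⊥ := Nat.find_min hex (hm ▸ Nat.lt_succ_self m)
  haveI hAn : A.Normal := derivedSeries_normal G m
  have hAc : ∀ x ∈ A, ∀ y ∈ A, x * y = y * x := by
    intro x hx y hy
    have := Nat.find_spec hex
    rw [hm, derivedSeries_succ] at this
    exact commutatorElement_eq_one_iff_mul_comm.1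
      (Subgroup.mem_bot.1 (this ▸ Subgroup.commutator_mem_commutator hx hy))
  obtain ⟨p, hp, hpd⟩ := Nat.exists_prime_and_dvd (n := Nat.card A)
    (fun h => hAne (Subgroup.card_eq_one.1 h))
  haveI := Fact.mk hp
  let R : Subgroup G :=
    { carrier := {x | x ∈ A ∧ x ^ p = 1}
      one_mem' := ⟨A.one_mem, one_pow p⟩
      mul_mem' := fun {x y} hx hy => ⟨A.mul_mem hx.1 hy.1, by
        rw [(show Commute x y from hAc x hx.1 y hy.1).mul_pow, hx.2, hy.2, one_mul]⟩
      inv_mem' := fun {x} hx => ⟨A.inv_mem hx.1, by rw [inv_pow, hx.2, inv_one]⟩ }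
  haveI hRn : R.Normal := ⟨fun x hx g => ⟨hAn.conj_mem x hx.1 g, by rw [conj_pow, hx.2, mul_one, mul_inv_cancel]⟩⟩
  have hRne : R ≠ ⊥ := by
    obtain ⟨x, hx⟩ := exists_prime_orderOf_dvd_card' (G := A) p hpd
    intro h
    have hxR : (x : G) ∈ R := ⟨x.2, by rw [← hx, ← Subgroup.orderOf_coe, pow_orderOf_eq_one]⟩
    rw [h, Subgroup.mem_bot] at hxR
    rw [← Subgroup.orderOf_coe, hxR, orderOf_one] at hx
    exact hp.one_lt.ne hx
  have htr := normal_transitive h2 R hRne
  refine ⟨R, p, hp, ⟨hRn, htr, fun r hr x hx => Subtype.ext (Equiv.ext fun y => ?_)⟩,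
    fun x hx y hy => hAc x hx.1 y hy.1, fun x hx => hx.2, hRne⟩
  obtain ⟨m, hm', rfl⟩ := htr x y
  show r • m • x = m • x
  rw [← mul_smul, hAc r hr.1 m hm'.1, mul_smul, hx]

theorem semiaffine_of_translations [Group.IsSolvable G]
    (h2 : MulAction.IsPretransitive G (Set.powersetCard α 2))
    {p f : ℕ} [hpf : Fact p.Prime] (hf0 : f ≠ 0) {W : Type u} [AddCommGroup W] [Module (ZMod p) W]
    [Finite W] [Nontrivial W] (hWcard : Nat.card W = p ^ f) (hmod : p ^ f % 4 = 3)
    (P0 : W ≃ α) (tr : W → G) (htr : ∀ v w : W, tr v • P0 w = P0 (v + w)) {a : α}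
    (θ : stabilizer G a → (W ≃+ W)) (hθ : ∀ (h : stabilizer G a) (v : W), (h : G) • P0 v = P0 (θ h v))
    (h0 : P0 0 = a) :
    ∃ e : α ≃ GaloisField p f,
      (∀ g : G, e.symm.trans (((g : Equiv.Perm α)).trans e) ∈ Cfsg.semiaffineGroup (GaloisField p f)) ∧
      ∀ b : GaloisField p f, ∃ g : G, ∀ x : α, e ((g : Equiv.Perm α) x) = e x + b := by
  classical
  let L : stabilizer G a → (W ≃ₗ[ZMod p] W) := fun h =>
    (θ h).toLinearEquiv fun c x => ZMod.map_smul (θ h).toAddMonoidHom c x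
  have hL : ∀ (h : stabilizer G a) (v : W), P0 (L h v) = (h : G) • P0 v := fun h v => (hθ h v).symm
  let ρ : stabilizer G a →* (W ≃ₗ[ZMod p] W) := MonoidHom.mk' L fun h k => LinearEquiv.ext fun v =>
    P0.injective (by rw [LinearEquiv.mul_apply, hL, hL, hL, Subgroup.coe_mul, mul_smul])
  have hρ : ∀ (h : stabilizer G a) (v : W), P0 (ρ h v) = (h : G) • P0 v := hL
  let neg : W ≃ₗ[ZMod p] W := LinearEquiv.neg (ZMod p)
  have hcomm : ∀ (h : stabilizer G a) (z : Subgroup.zpowers neg),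
      Commute (ρ h) ((Subgroup.zpowers neg).subtype z) := by
    rintro h ⟨z, hz⟩
    obtain ⟨i, rfl⟩ := Subgroup.mem_zpowers_iff.1 hz
    refine Commute.zpow_right (LinearEquiv.ext fun v => ?_) i
    show ρ h (-v) = -ρ h v
    rw [map_neg]
  set φ := ρ.noncommCoprod (Subgroup.zpowers neg).subtype hcomm with hφ
  haveI : Group.IsSolvable (Subgroup.zpowers neg) :=
    Group.isSolvable_of_comm fun x y => mul_comm' x y
  haveI hKsol : Group.IsSolvable φ.range :=
    Group.isSolvable_of_surjective φ.rangeRestrict_surjective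
  haveI : Finite (W ≃ₗ[ZMod p] W) := Finite.of_injective _ DFunLike.coe_injective
  have hKtr : ∀ v w : W, v ≠ 0 → w ≠ 0 → ∃ k : φ.range, φ.range.subtype k v = w := by
    intro v w hv hw
    have hne' : ∀ u : W, u ≠ 0 → a ≠ P0 u := fun u hu e =>
      hu (P0.injective (e.symm.trans h0.symm))
    obtain ⟨g, ⟨h1, h4⟩ | ⟨h1, h4⟩⟩ := exists_pair h2 (hne' v hv) (hne' w hw)
    · refine ⟨⟨φ (⟨g, h1⟩, 1), _, rfl⟩, P0.injective ?_⟩
      show P0 (φ (⟨g, h1⟩, 1) v) = P0 w
      rw [hφ, MonoidHom.noncommCoprod_apply, map_one, mul_one, hρ]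
      exact h4
    · have hfix : (tr (-w) * g) • a = a := by
        rw [mul_smul, h1, htr, neg_add_cancel, h0]
      refine ⟨⟨φ (⟨_, hfix⟩, ⟨neg, Subgroup.mem_zpowers _⟩), _, rfl⟩, ?_⟩
      have key : ρ ⟨_, hfix⟩ v = -w := P0.injective (by
        rw [hρ]
        show (tr (-w) * g) • P0 v = _
        rw [mul_smul, h4, ← h0, htr, add_zero])
      show φ (⟨_, hfix⟩, ⟨neg, Subgroup.mem_zpowers _⟩) v = w
      rw [hφ, MonoidHom.noncommCoprod_apply]
      show ρ ⟨_, hfix⟩ (-v) = w
      rw [map_neg, key, neg_neg]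
  rcases Cfsg.Agent.S3360.result p hKsol φ.range.subtype φ.range.subtype_injective hKtr with
    ⟨F, iF, iFF, e, he⟩ | hexc
  swap
  · exfalso
    rw [hWcard] at hexc
    simp only [Set.mem_insert_iff, Set.mem_singleton_iff] at hexc
    omega
  have hFcard : Fintype.card F = p ^ f := by
    rw [← Nat.card_eq_fintype_card, ← Nat.card_congr e.toEquiv, hWcard]
  haveI : CharP F p := by
    obtain ⟨n, hq, hn⟩ := FiniteField.card F (ringChar F)
    have h5 : ringChar F = p := by
      rw [hFcard] at hn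
      exact (Nat.prime_dvd_prime_iff_eq hq hpf.out).1
        (hq.dvd_of_dvd_pow (hn ▸ dvd_pow_self (ringChar F) n.ne_zero))
    exact h5 ▸ ringChar.charP F
  haveI : Fintype (GaloisField p f) := Fintype.ofFinite _
  let E : F ≃+* GaloisField p f := FiniteField.ringEquivOfCardEq (K := F) (K' := GaloisField p f) (by
    rw [hFcard, ← Nat.card_eq_fintype_card, GaloisField.card p f hf0])
  let P : F ≃ α := e.symm.toEquiv.trans P0
  have hP : ∀ x : F, P x = P0 (e.symm x) := fun _ => rfl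
  have htransl : ∀ (v : W) (x : F), tr v • P x = P (x + e v) := by
    intro v x
    rw [hP, hP, htr, map_add e.symm, e.symm_apply_apply, add_comm]
  have hall : ∀ g : G, ∃ (a0 : Fˣ) (c : F) (σ : F ≃+* F), ∀ x : F, g • P x = P ((a0 : F) * σ x + c) := by
    intro g
    set v := P0.symm (g • a) with hv
    have hva : g • a = P0 v := (P0.apply_symm_apply _).symm
    have hfix : (tr (-v) * g) • a = a := by rw [mul_smul, hva, htr, neg_add_cancel, h0]
    obtain ⟨a0, σ, hσ⟩ := he ⟨φ (⟨_, hfix⟩, 1), _, rfl⟩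
    have hσ' : ∀ u : W, e (ρ ⟨_, hfix⟩ u) = a0 * σ (e u) := fun u => by
      have := hσ u
      rw [Subgroup.coe_subtype, hφ] at this
      simpa [MonoidHom.noncommCoprod_apply] using this
    have ha0 : a0 ≠ 0 := by
      intro hz
      obtain ⟨u, hu⟩ := exists_ne (0 : W)
      have h6 := hσ' u
      rw [hz, zero_mul, AddEquiv.map_eq_zero_iff, LinearEquiv.map_eq_zero_iff] at h6
      exact hu h6
    refine ⟨Units.mk0 a0 ha0, e v, σ, fun x => ?_⟩
    have h8 : e.symm (a0 * σ x) = ρ ⟨_, hfix⟩ (e.symm x) := by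
      rw [AddEquiv.symm_apply_eq, hσ', e.apply_symm_apply]
    have h7 : tr (-v) • g • P x = P (a0 * σ x) := by
      rw [hP, hP, h8, hρ, ← mul_smul]
    have h9 := congrArg (fun y => tr v • y) h7
    have h10 : tr v • tr (-v) • g • P x = g • P x := by
      obtain ⟨w, hw⟩ := P0.surjective (g • P x)
      rw [← hw, htr, htr, add_neg_cancel_left]
    rw [Units.val_mk0, ← h10]
    exact h9.trans (htransl v _)
  refine ⟨P.symm.trans E.toEquiv, fun g => ?_, fun b => ?_⟩
  · obtain ⟨a0, c, σ, h⟩ := hall g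
    refine ⟨Units.map (E : F →* GaloisField p f) a0, E c, (E.symm.trans σ).trans E, fun x => ?_⟩
    have h' : (g : Equiv.Perm α) (P (E.symm x)) = P ((a0 : F) * σ (E.symm x) + c) := h (E.symm x)
    show E (P.symm ((g : Equiv.Perm α) (P (E.symm x)))) = _
    rw [h', Equiv.symm_apply_apply]
    simp
  · refine ⟨tr (e.symm (E.symm b)), fun x => ?_⟩
    obtain ⟨y, rfl⟩ := P.surjective x
    show E (P.symm (tr (e.symm (E.symm b)) • P y)) = E (P.symm (P y)) + b
    rw [htransl, e.apply_symm_apply, P.symm_apply_apply, P.symm_apply_apply, map_add,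
      E.apply_symm_apply]

theorem semiaffine_of_two_homogeneous (hFT : Odd (Nat.card G) → Group.IsSolvable G) (hne : G ≠ ⊥)
    (h2 : MulAction.IsPretransitive G (Set.powersetCard α 2))
    (hn2 : ¬ MulAction.IsMultiplyPretransitive G α 2) :
    Odd (Nat.card G) ∧ ∃ (p f : ℕ) (_ : Fact p.Prime), p ≠ 2 ∧ Fintype.card α = p ^ f ∧ p ^ f % 4 = 3 ∧
      ∃ e : α ≃ GaloisField p f,
        (∀ g : G, e.symm.trans (((g : Equiv.Perm α)).trans e) ∈ Cfsg.semiaffineGroup (GaloisField p f)) ∧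
        ∀ b : GaloisField p f, ∃ g : G, ∀ x : α, e ((g : Equiv.Perm α) x) = e x + b := by
  classical
  have hodd := odd_card h2 hn2
  refine ⟨hodd, ?_⟩
  haveI hsol := hFT hodd
  have h3 := three_le hne hn2
  haveI htrans := pretransitive h3 h2
  obtain ⟨R, p, hp, hR, hRc, hRp, hRne⟩ := exists_regular_normal hne h2
  haveI hpf := Fact.mk hp
  haveI := hR.normal
  obtain ⟨a⟩ : Nonempty α := Fintype.card_pos_iff.1 (by omega)
  let P0 : R ≃ α := Equiv.ofBijective (fun x : R => (x : G) • a)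
    ⟨fun x y h => Subtype.ext (hR.eq_of_smul x.2 y.2 h), fun c => by
      obtain ⟨r, hr, hrc⟩ := hR.trans a c
      exact ⟨⟨r, hr⟩, hrc⟩⟩
  have hP0 : ∀ x : R, P0 x = (x : G) • a := fun _ => rfl
  obtain ⟨f, hf⟩ := IsPGroup.iff_card.1 (show IsPGroup p R from fun x =>
    ⟨1, Subtype.ext (by rw [pow_one, SubmonoidClass.coe_pow, OneMemClass.coe_one]; exact hRp x x.2)⟩)
  have hcardα : Fintype.card α = p ^ f := by
    rw [← hf, Nat.card_congr P0, Nat.card_eq_fintype_card]
  have hf0 : f ≠ 0 := fun h => by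
    rw [h, pow_zero] at hcardα; omega
  have hp2 : p ≠ 2 := by
    intro h
    have h1 : 2 ∣ Nat.card G :=
      ((h ▸ dvd_pow_self p hf0 : 2 ∣ p ^ f).trans (dvd_of_eq hf.symm)).trans R.card_subgroup_dvd_card
    exact (Nat.not_even_iff_odd.2 hodd) (even_iff_two_dvd.2 h1)
  have hmod : p ^ f % 4 = 3 := by
    obtain ⟨a', ha'⟩ : ∃ c, c ≠ a := Fintype.exists_ne_of_one_lt_card (by omega) a
    have hdvd : Nat.card (Set.powersetCard α 2) ∣ Nat.card G := by
      rw [← MulAction.index_stabilizer_of_transitive G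
        (⟨{a', a}, Finset.card_pair ha'⟩ : Set.powersetCard α 2)]
      exact Subgroup.index_dvd_card _
    rw [Set.powersetCard.card, Nat.card_eq_fintype_card, hcardα, Nat.choose_two_right] at hdvd
    have hch : Odd (p ^ f * (p ^ f - 1) / 2) := hodd.of_dvd_nat hdvd
    have hno : Odd (p ^ f) := (hp.odd_of_ne_two hp2).pow
    obtain ⟨i, hi⟩ := hno
    rw [hi] at hch ⊢
    have h4 : (2 * i + 1) * (2 * i + 1 - 1) / 2 = (2 * i + 1) * i := by
      rw [Nat.add_sub_cancel, ← mul_assoc, mul_comm _ 2, mul_assoc, Nat.mul_div_cancel_left _ two_pos]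
    rw [h4, Nat.odd_mul] at hch
    obtain ⟨j, rfl⟩ := hch.2
    omega
  refine ⟨p, f, hpf, hp2, hcardα, hmod, ?_⟩
  letI : CommGroup R :=
    { (inferInstance : Group R) with mul_comm := fun x y => Subtype.ext (hRc x x.2 y y.2) }
  have hexp : ∀ v : Additive R, p • v = 0 := fun v => by
    refine Additive.toMul.injective (Subtype.ext ?_)
    rw [toMul_nsmul, toMul_zero, SubmonoidClass.coe_pow, OneMemClass.coe_one]
    exact hRp _ (Additive.toMul v).2
  letI := AddCommGroup.zmodModule hexp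
  haveI : Finite (Additive R) := inferInstanceAs (Finite R)
  haveI := (Subgroup.nontrivial_iff_ne_bot R).2 hRne
  haveI : Nontrivial (Additive R) := Additive.toMul.nontrivial
  refine semiaffine_of_translations (W := Additive R) h2 hf0
    ((Nat.card_congr Additive.toMul).trans hf) hmod (Additive.toMul.trans P0)
    (fun v => ((Additive.toMul v : R) : G)) (fun v w => ?_)
    (fun h => MulEquiv.toAdditive (MulAut.conjNormal (h : G) : MulAut R)) (fun h v => ?_)
    (show ((1 : R) : G) • a = a from one_smul G a)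
  · show ((Additive.toMul v : R) : G) • P0 (Additive.toMul w) = P0 (Additive.toMul v * Additive.toMul w)
    rw [hP0, hP0, Subgroup.coe_mul, mul_smul]
  · show (h : G) • P0 (Additive.toMul v) =
      P0 ((MulAut.conjNormal (h : G) : MulAut R) (Additive.toMul v))
    rw [hP0, hP0, MulAut.conjNormal_apply]
    exact (CfsgLib.Zass.IsRegularNormal.conj_smul h.2 _).symm

end

end CfsgLib.KantorTwoHom
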